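import Cfsg.Agent.Lib.FGS.FrobCount
import Cfsg.Agent.Lib.TwoFusion.Isolated
import Cfsg.Agent.Lib.PGroup.Basic
import Cfsg.Agent.Lib.Invol.Dihedral

/-! Counting the solutions of `x² = 1` modulo four. -/

set_option autoImplicit false
set_option linter.unusedSectionVars false

namespace H41

theorem dvd_of_split {α : Type*} [Finite α] {d : ℕ} {P : α → Prop} (p : α → Prop)
    (h1 : d ∣ {x | P x ∧ p x}.ncard) (h2 : d ∣ {x | P x ∧ ¬ p x}.ncard) : d ∣ {x | P x}.ncard := by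
  rw [← Set.ncard_inter_add_ncard_sdiff_eq_ncard _ {x | p x}]
  exact dvd_add h1 h2

theorem four_dvd_ncard {α : Type*} [Finite α] {P : α → Prop} (f g : α → α)
    (hf : ∀ x, P x → P (f x)) (hg : ∀ x, P x → P (g x)) (ff : ∀ x, P x → f (f x) = x)
    (fg : ∀ x, P x → g (f x) = f (g x)) (gg : ∀ x, P x → g (g x) = x ∨ g (g x) = f x)
    (h1 : ∀ x, P x → f x ≠ x) (h2 : ∀ x, P x → g x ≠ x) (h3 : ∀ x, P x → g x ≠ f x) :
    4 ∣ {x | P x}.ncard := by
  have e1 : ∀ x, P x → ({f x, f (f x), g (f x), f (g (f x))} : Set α) = {x, f x, g x, f (g x)} :=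
    fun x hx => by rw [fg x hx, ff x hx, ff _ (hg x hx)]; ext; simp only [Set.mem_insert_iff,
      Set.mem_singleton_iff]; tauto
  have e2 : ∀ x, P x → ({g x, f (g x), g (g x), f (g (g x))} : Set α) = {x, f x, g x, f (g x)} :=
    fun x hx => by
      rcases gg x hx with e | e <;> rw [e] <;> try rw [ff x hx]
      all_goals ext; simp only [Set.mem_insert_iff, Set.mem_singleton_iff]; tauto
  refine H79.dvd_ncard_of_blocks _ (Set.toFinite _) 4 (fun x => {x, f x, g x, f (g x)})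
    (fun x _ => Or.inl rfl) ?_ ?_ fun x hx => ?_
  · rintro x hx _ (rfl | rfl | rfl | rfl)
    exacts [hx, hf x hx, hg x hx, hf _ (hg x hx)]
  · rintro x hx _ (rfl | rfl | rfl | rfl)
    exacts [rfl, e1 x hx, e2 x hx, (e1 _ (hg x hx)).trans (e2 x hx)]
  · have h4 : x ≠ f (g x) := fun e => h3 x hx (by rw [← ff _ (hg x hx), ← e])
    have h5 : f x ≠ f (g x) := fun e => h2 x hx (by rw [← ff _ (hg x hx), ← e, ff x hx])
    rw [Set.ncard_insert_of_notMem, Set.ncard_insert_of_notMem, Set.ncard_pair (h1 _ (hg x hx)).symm]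
    · simp [(h3 x hx).symm, h5]
    · simp [(h1 x hx).symm, (h2 x hx).symm, h4]

variable {G : Type*} [Group G] [Finite G]

/-- The involutions `x` generating with `w` a dihedral group of order eight with centre `v`. -/
def D8 (v w x : G) : Prop := x * x = 1 ∧ Commute x v ∧ w * x * w⁻¹ = x * v

theorem mul_self_mul {x v : G} (hx : x * x = 1) (hv : v * v = 1) (h : Commute x v) :
    x * v * (x * v) = 1 := by rw [h.symm.mul_mul_mul_comm, hx, hv, one_mul]

theorem conj_mul_self {x : G} (hx : x * x = 1) (g : G) : g * x * g⁻¹ * (g * x * g⁻¹) = 1 := by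
  rw [conj_mul, hx, mul_one, mul_inv_cancel]

theorem conj_conj_of_mul_self {w : G} (hw : w * w = 1) (x : G) : w * (w * x * w⁻¹) * w⁻¹ = x := by
  rw [← mul_assoc, ← mul_assoc, hw, one_mul, mul_assoc, ← mul_inv_rev, hw, inv_one, mul_one]

theorem commute_conj {a x v : G} (h : Commute a v) : Commute (a * x * a⁻¹) v ↔ Commute x v :=
  ⟨fun e => by simpa [mul_assoc] using (h.inv_left.mul_left e).mul_left h,
    fun e => (h.mul_left e).mul_left h.inv_left⟩

section
variable {v w : G} (hv : v * v = 1) (hw : w * w = 1) (hc : Commute v w) (v1 : v ≠ 1)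
include hv hw hc v1

theorem four_dvd_of_D8 (h : 4 ∣ {x | D8 v w x}.ncard) :
    4 ∣ {x | x * x = 1 ∧ Commute x v ∧ ¬ Commute x w}.ncard := by
  refine dvd_of_split (fun x => w * x * w⁻¹ = x * v) (by
    convert h using 2
    ext x
    exact ⟨fun e => ⟨e.1.1, e.1.2.1, e.2⟩, fun e => ⟨⟨e.1, e.2.1, fun e' => v1 (by
      simpa [e'.symm.eq] using e.2.2.symm)⟩, e.2.2⟩⟩) ?_
  refine four_dvd_ncard (· * v) (fun x => w * x * w⁻¹) (fun x ⟨⟨h1, h2, h3⟩, h4⟩ => ?_)
    (fun x ⟨⟨h1, h2, h3⟩, h4⟩ => ?_) (fun x _ => by rw [mul_assoc, hv, mul_one])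
    (fun x _ => by rw [mul_assoc _ w⁻¹, ← hc.inv_right.eq]; group)
    (fun x _ => Or.inl (conj_conj_of_mul_self hw x)) (fun x _ => by simpa)
    (fun x hx e => hx.1.2.2 (mul_inv_eq_iff_eq_mul.1 e).symm) fun x hx => hx.2
  · refine ⟨⟨mul_self_mul h1 hv h2, h2.mul_left rfl, fun e => h3 ?_⟩, fun e => h4 ?_⟩
    · simpa using e.mul_left hc.inv_left
    · rw [← mul_right_cancel_iff (a := v), ← e, mul_assoc _ w⁻¹, ← hc.inv_right.eq]; group
  · refine ⟨⟨conj_mul_self h1 w, (commute_conj hc.symm).2 h2,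
      fun e => h3 ((commute_conj (Commute.refl w)).1 e)⟩, fun e => h4 ?_⟩
    rw [conj_conj_of_mul_self hw] at e
    rw [← mul_right_cancel_iff (a := v), ← e, mul_assoc, hv, mul_one]

theorem four_dvd_D8_fix {a : G} (h1 : Commute a v) (h2 : Commute a w)
    (ha : a ≠ 1 ∧ a ≠ v ∧ a ≠ w ∧ a ≠ v * w)
    (h3 : a * a = 1 ∨ a * a = v ∨ a * a = w ∨ a * a = v * w) :
    4 ∣ {x | D8 v w x ∧ Commute x a}.ncard := by
  have h4 : ∀ b, Commute b v → Commute b w → Commute b a → b ≠ 1 → b ≠ v →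
      (∀ x, D8 v w x → Commute x a → x * b * (x * b) = 1 ∧ (x * b * b = x ∨ x * b * b = x * v)) →
      4 ∣ {x | D8 v w x ∧ Commute x a}.ncard := fun b b1 b2 b3 b4 b5 b6 =>
    four_dvd_ncard (· * v) (· * b) (fun x ⟨⟨e1, e2, e3⟩, e4⟩ => ⟨⟨mul_self_mul e1 hv e2,
      e2.mul_left rfl, by rw [← mul_assoc w, mul_assoc _ v, hc.inv_right.eq, ← mul_assoc, e3]⟩,
      e4.mul_left h1.symm⟩)
      (fun x ⟨hx, e4⟩ => ⟨⟨(b6 x hx e4).1, hx.2.1.mul_left b1, by
        rw [mul_assoc x, b1.eq, ← mul_assoc x, ← hx.2.2, mul_assoc _ w⁻¹, ← b2.inv_right.eq]; group⟩,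
        e4.mul_left b3⟩) (fun x _ => by rw [mul_assoc, hv, mul_one])
      (fun x _ => by rw [mul_assoc, mul_assoc, b1.eq]) (fun x hx => (b6 x hx.1 hx.2).2)
      (fun x _ => by simpa) (fun x _ => by simpa) fun x _ => by simpa
  have h5 : ∀ x, D8 v w x → ¬ Commute x w := fun x hx e => v1 (by
    simpa [e.symm.eq] using hx.2.2.symm)
  rcases h3 with h3 | h3 | h3 | h3
  · exact h4 a h1 h2 rfl ha.1 ha.2.1 fun x hx e =>
      ⟨mul_self_mul hx.1 h3 e, Or.inl (by rw [mul_assoc, h3, mul_one])⟩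
  · have h6 : a * w * (a * w) = v := by rw [h2.symm.mul_mul_mul_comm, h3, hw, mul_one]
    refine h4 (a * w) (h1.mul_left hc.symm) (h2.mul_left rfl) ((Commute.refl a).mul_left h2.symm)
      (fun e => ha.2.2.1 ((eq_inv_of_mul_eq_one_left e).trans (inv_eq_of_mul_self hw)))
      (fun e => ha.2.2.2 (by rw [← e, mul_assoc, hw, mul_one])) fun x hx e =>
        ⟨?_, Or.inr (by rw [mul_assoc, h6])⟩
    calc x * (a * w) * (x * (a * w)) = x * a * (w * x * w⁻¹) * (w * a * w) := by group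
      _ = x * x * (a * v * a) := by
          rw [hx.2.2, ← h2.eq, mul_assoc a, hw, mul_one, mul_assoc x, ← mul_assoc a, ← e.eq]; group
      _ = 1 := by rw [hx.1, one_mul, h1.eq, mul_assoc, h3, hv]
  · rw [show {x | D8 v w x ∧ Commute x a} = ∅ from
      Set.eq_empty_of_forall_notMem fun x hx => h5 x hx.1 (h3 ▸ hx.2.mul_right hx.2)]; simp
  · rw [show {x | D8 v w x ∧ Commute x a} = ∅ from
      Set.eq_empty_of_forall_notMem fun x hx => h5 x hx.1 (by
      simpa using hx.1.2.1.inv_right.mul_right (h3 ▸ hx.2.mul_right hx.2 : Commute x (v * w)))]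
    simp

theorem four_dvd_D8 {a : G} (h1 : Commute a v) (h2 : Commute a w)
    (ha : a ≠ 1 ∧ a ≠ v ∧ a ≠ w ∧ a ≠ v * w)
    (h3 : a * a = 1 ∨ a * a = v ∨ a * a = w ∨ a * a = v * w) : 4 ∣ {x | D8 v w x}.ncard := by
  have h4 : ∀ x, D8 v w x → (a * x * a⁻¹ = x * v ↔ Commute x (a * w)) := fun x hx => by
    rw [← hx.2.2, commute_iff_eq, mul_inv_eq_iff_eq_mul, inv_eq_of_mul_self hw, eq_comm,
      ← mul_left_cancel_iff (a := w), ← mul_assoc w a, ← mul_assoc, ← mul_assoc, ← mul_assoc, hw,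
      one_mul, mul_assoc x, ← h2.eq]
  have hw' : ∀ y : G, y * w * w = y := fun y => by rw [mul_assoc, hw, mul_one]
  refine dvd_of_split (fun x => Commute x a) (four_dvd_D8_fix hv hw hc v1 h1 h2 ha h3)
    (dvd_of_split (fun x => Commute x (a * w)) ?_ ?_)
  · have := four_dvd_D8_fix hv hw hc v1 (a := a * w) (h1.mul_left hc.symm) (h2.mul_left rfl)
      ⟨fun e => ha.2.2.1 (by rw [← hw' a, e, one_mul]), fun e => ha.2.2.2 (by rw [← hw' a, e]),
        fun e => ha.1 (by rw [← hw' a, e, hw]), fun e => ha.2.1 (mul_right_cancel e)⟩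
      (by rwa [h2.symm.mul_mul_mul_comm, hw, mul_one])
    convert this using 2
    ext x
    refine ⟨fun e => ⟨e.1.1, e.2⟩, fun e => ⟨⟨e.1, fun e' => v1 ?_⟩, e.2⟩⟩
    simpa [e'.symm.eq] using ((h4 x e.1).2 e.2).symm
  · refine four_dvd_ncard (· * v) (fun x => a * x * a⁻¹) (fun x ⟨⟨⟨e1, e2, e3⟩, e4⟩, e5⟩ => ?_)
      (fun x ⟨⟨⟨e1, e2, e3⟩, e4⟩, e5⟩ => ?_) (fun x _ => by rw [mul_assoc, hv, mul_one])
      (fun x _ => by rw [mul_assoc _ a⁻¹, ← h1.symm.inv_right.eq]; group) (fun x hx => ?_)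
      (fun x _ => by simpa) (fun x hx e => hx.1.2 (mul_inv_eq_iff_eq_mul.1 e).symm)
      fun x hx e => hx.2 ((h4 x hx.1.1).1 e)
    · refine ⟨⟨⟨mul_self_mul e1 hv e2, e2.mul_left rfl, by
        rw [← mul_assoc w, mul_assoc _ v, hc.inv_right.eq, ← mul_assoc, e3]⟩, fun e => e4 ?_⟩,
        fun e => e5 ?_⟩
      · simpa using e.mul_left h1.symm.inv_left
      · simpa using e.mul_left (h1.mul_left hc.symm).symm.inv_left
    · refine ⟨⟨⟨conj_mul_self e1 a, (commute_conj h1).2 e2, ?_⟩,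
        fun e => e4 ((commute_conj (Commute.refl a)).1 e)⟩,
        fun e => e5 ((commute_conj ((Commute.refl a).mul_right h2)).1 e)⟩
      calc w * (a * x * a⁻¹) * w⁻¹ = w * a * x * (w * a)⁻¹ := by group
        _ = a * (w * x * w⁻¹) * a⁻¹ := by rw [← h2.eq]; group
        _ = _ := by rw [e3, mul_assoc _ a⁻¹, h1.inv_left.eq]; group
    · obtain ⟨⟨⟨-, e2, e3⟩, -⟩, -⟩ := hx
      have : a * (a * x * a⁻¹) * a⁻¹ = a * a * x * (a * a)⁻¹ := by group
      rw [this]
      rcases h3 with h | h | h | h <;> rw [h]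
      · simp
      · exact Or.inl (by rw [← e2.eq, mul_inv_cancel_right])
      · exact Or.inr e3
      · refine Or.inr ((show _ = v * (w * x * w⁻¹) * v⁻¹ by group).trans ?_)
        rw [e3, ← mul_assoc, mul_inv_cancel_right, e2.eq]

end

theorem four_dvd_sq_one {z b : G} (hz : z * z = 1) (hb : b * b = 1) (hc : Commute z b) (z1 : z ≠ 1)
    (b1 : b ≠ 1) (zb : z ≠ b) (h1 : 4 ∣ {x | D8 z b x}.ncard) (h2 : 4 ∣ {x | D8 b z x}.ncard)
    (h3 : 4 ∣ {x | D8 (z * b) z x}.ncard) : 4 ∣ {x : G | x * x = 1}.ncard := by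
  have zb1 : z * b ≠ 1 := fun e => zb ((eq_inv_of_mul_eq_one_left e).trans (inv_eq_of_mul_self hb))
  refine dvd_of_split (fun x => Commute x z) (dvd_of_split (fun x => Commute x b) ?_ ?_)
    (dvd_of_split (fun x => Commute x b) ?_ (dvd_of_split (fun x => Commute x (z * b)) ?_ ?_))
  · exact four_dvd_ncard (· * z) (· * b)
      (fun x ⟨⟨e1, e2⟩, e3⟩ => ⟨⟨mul_self_mul e1 hz e2, e2.mul_left rfl⟩, e3.mul_left hc⟩)
      (fun x ⟨⟨e1, e2⟩, e3⟩ => ⟨⟨mul_self_mul e1 hb e3, e2.mul_left hc.symm⟩, e3.mul_left rfl⟩)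
      (fun x _ => by rw [mul_assoc, hz, mul_one]) (fun x _ => by rw [mul_assoc, mul_assoc, hc.eq])
      (fun x _ => Or.inl (by rw [mul_assoc, hb, mul_one])) (fun x _ => by simpa)
      (fun x _ => by simpa) fun x _ => by simpa using zb.symm
  · simpa only [and_assoc] using four_dvd_of_D8 hz hb hc z1 h1
  · simpa only [and_assoc, and_comm (a := ¬ Commute _ z)] using four_dvd_of_D8 hb hz hc.symm b1 h2
  · convert four_dvd_of_D8 (mul_self_mul hz hb hc) hz ((Commute.refl z).mul_left hc.symm) zb1 h3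
      using 2
    ext x
    exact ⟨fun e => ⟨e.1.1.1, e.2, e.1.1.2⟩, fun e => ⟨⟨⟨e.1, e.2.2⟩, fun e' => e.2.2 (by
      simpa using e.2.1.mul_right e'.inv_right)⟩, e.2.1⟩⟩
  · have key : ∀ c : G, Commute c z → Commute c b → ∀ x : G,
        ((x * x = 1 ∧ ¬ Commute x z) ∧ ¬ Commute x b) ∧ ¬ Commute x (z * b) →
        ((c * x * c⁻¹ * (c * x * c⁻¹) = 1 ∧ ¬ Commute (c * x * c⁻¹) z) ∧
          ¬ Commute (c * x * c⁻¹) b) ∧ ¬ Commute (c * x * c⁻¹) (z * b) :=
      fun c c1 c2 x ⟨⟨⟨e1, e2⟩, e3⟩, e4⟩ => ⟨⟨⟨conj_mul_self e1 c, by rwa [commute_conj c1]⟩,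
        by rwa [commute_conj c2]⟩, by rwa [commute_conj (c1.mul_right c2)]⟩
    refine four_dvd_ncard (fun x => z * x * z⁻¹) (fun x => b * x * b⁻¹) (key z rfl hc)
      (key b hc.symm rfl) (fun x _ => conj_conj_of_mul_self hz x) (fun x _ => ?_)
      (fun x _ => Or.inl (conj_conj_of_mul_self hb x))
      (fun x hx e => hx.1.1.2 (mul_inv_eq_iff_eq_mul.1 e).symm)
      (fun x hx e => hx.1.2 (mul_inv_eq_iff_eq_mul.1 e).symm) fun x hx e => hx.2 ?_
    · have : ∀ c d : G, c * (d * x * d⁻¹) * c⁻¹ = c * d * x * (c * d)⁻¹ := fun c d => by group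
      rw [this, this, hc.eq]
    · have : z * (b * x * b⁻¹) * z⁻¹ = x := by rw [e, conj_conj_of_mul_self hz]
      exact (mul_inv_eq_iff_eq_mul.1 (show z * b * x * (z * b)⁻¹ = x from Eq.trans (by group) this)).symm

theorem ncard_sq_one : {x : G | x * x = 1}.ncard = Nat.card {t : G // orderOf t = 2} + 1 := by
  rw [show {x : G | x * x = 1} = insert 1 {t | orderOf t = 2} from Set.ext fun x =>
    ⟨fun e => (em (x = 1)).imp id fun h => orderOf_two_of_mul_self h e,
      fun e => e.elim (fun h => by simp [h]) mul_self_of_orderOf_two⟩,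
    Set.ncard_insert_of_notMem (by simp)]
  rfl

theorem exists_sq_mem {V : G → Prop} : ∀ (k : ℕ) (c : G), V (c ^ 2 ^ k) → ¬ V c →
    ∃ n : ℕ, ¬ V (c ^ n) ∧ V (c ^ n * c ^ n)
  | 0, c, h, h' => (h' (by simpa using h)).elim
  | k + 1, c, h, h' => by
    by_cases e : V (c ^ 2)
    · exact ⟨1, by simpa, by simpa [sq] using e⟩
    · obtain ⟨n, h1, h2⟩ := exists_sq_mem k (c ^ 2) (by rwa [← pow_mul, ← pow_succ']) e
      exact ⟨2 * n, by rwa [pow_mul], by rwa [pow_mul]⟩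

open Subgroup in
/-- If the number of solutions of `x² = 1` is not divisible by four then a Sylow `2`-subgroup
has at most one involution or has order at least `8` and an involution with centralizer of
order four. -/
theorem sylow_of_not_four_dvd (hX : ¬ 4 ∣ {x : G | x * x = 1}.ncard) (T : Sylow 2 G) {u v : G}
    (uT : u ∈ T) (vT : v ∈ T) (hu : orderOf u = 2) (hv : orderOf v = 2) (uv : u ≠ v) :
    8 ∣ Nat.card T ∧ ∃ x : T, orderOf x = 2 ∧ Nat.card (centralizer ({x} : Set T)) = 4 := by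
  obtain ⟨z, -, hz, zo⟩ := H5.exists_mem_center_orderOf_eq T.isPGroup' ⊤ fun e => by
    have h : (⟨u, uT⟩ : T) ∈ (⊥ : Subgroup T) := e ▸ mem_top _
    exact ne_one_of_orderOf_two hu (Subtype.ext_iff.1 (mem_bot.1 h))
  obtain ⟨b, bo, zb⟩ : ∃ b : T, orderOf b = 2 ∧ z ≠ b := by
    by_cases e : z = ⟨u, uT⟩
    · exact ⟨⟨v, vT⟩, by rwa [orderOf_mk], fun e' => uv (congrArg Subtype.val (e.symm.trans e'))⟩
    · exact ⟨⟨u, uT⟩, by rwa [orderOf_mk], e⟩
  have zz := mul_self_of_orderOf_two zo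
  have bb := mul_self_of_orderOf_two bo
  have z1 := ne_one_of_orderOf_two zo
  have b1 := ne_one_of_orderOf_two bo
  have hc : ∀ c : T, Commute c z := fun c => mem_center_iff.1 hz c
  have zb1 : z * b ≠ 1 := fun e => zb ((eq_inv_of_mul_eq_one_left e).trans (inv_eq_of_mul_self bb))
  have zz' : (z : G) * z = 1 := congrArg Subtype.val zz
  have bb' : (b : G) * b = 1 := congrArg Subtype.val bb
  have hc' : Commute (z : G) b := congrArg Subtype.val (hc b).symm.eq
  have z1' : (z : G) ≠ 1 := fun e => z1 (Subtype.ext e)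
  have b1' : (b : G) ≠ 1 := fun e => b1 (Subtype.ext e)
  have zb1' : (z : G) * b ≠ 1 := fun e => zb1 (Subtype.ext e)
  have main := four_dvd_sq_one zz' bb' hc' z1' b1' fun e => zb (Subtype.ext e)
  have hall : ∀ c : T, Commute c b → c = 1 ∨ c = z ∨ c = b ∨ c = z * b := fun c hcb => by
    by_contra h
    obtain ⟨k, hk⟩ := T.isPGroup' c
    obtain ⟨n, h1, h2⟩ := exists_sq_mem (V := fun c => c = 1 ∨ c = z ∨ c = b ∨ c = z * b) k c
      (Or.inl hk) h
    have a1 : Commute ((c ^ n : T) : G) z := congrArg Subtype.val (hc _).eq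
    have a2 : Commute ((c ^ n : T) : G) b := congrArg Subtype.val (hcb.pow_left n).eq
    simp only [Subtype.ext_iff, not_or, coe_mul, coe_one] at h1 h2
    have zbz : (z : G) * b * z = b := by rw [hc'.eq, mul_assoc, zz', mul_one]
    refine hX (main (four_dvd_D8 zz' bb' hc' z1' a1 a2 h1 h2)
      (four_dvd_D8 bb' zz' hc'.symm b1' a2 a1 ?_ ?_) (four_dvd_D8 (mul_self_mul zz' bb' hc') zz'
        ((Commute.refl _).mul_left hc'.symm) zb1' (a1.mul_right a2) a1 ?_ ?_))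
    all_goals first | rw [zbz] | rw [← hc'.eq]
    all_goals tauto
  have h4 : Nat.card (centralizer ({b} : Set T)) = 4 := by
    have : (centralizer ({b} : Set T) : Set T) = {1, z, b, z * b} := Set.ext fun c =>
      ⟨fun e => hall c (mem_centralizer_singleton_iff.1 e), by
        rintro (rfl | rfl | rfl | rfl) <;> refine mem_centralizer_singleton_iff.2 ?_
        exacts [by simp, (hc b).symm.eq, rfl, ((hc b).symm.mul_left rfl).eq]⟩
    rw [← SetLike.coe_sort_coe, Nat.card_coe_set_eq, this, Set.ncard_insert_of_notMem,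
      Set.ncard_insert_of_notMem, Set.ncard_pair]
    · simpa using z1
    · simp [zb, b1]
    · simp [z1.symm, b1.symm, zb1.symm]
  refine ⟨?_, b, bo, h4⟩
  obtain ⟨k, hk⟩ := IsPGroup.iff_card.1 T.isPGroup'
  have h5 : 4 ∣ Nat.card T := h4 ▸ card_subgroup_dvd_card _
  by_contra h8
  have hT : Nat.card T = 4 := by
    rw [hk] at h5 h8 ⊢
    match k with
    | 0 | 1 => omega
    | 2 => rfl
    | k + 3 => exact (h8 (pow_dvd_pow 2 (by omega : 3 ≤ k + 3))).elim
  have htop : centralizer ({b} : Set T) = ⊤ := eq_top_of_card_eq _ (h4.trans hT.symm)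
  have hsq : ∀ c : T, c * c = 1 := fun c => by
    rcases hall c (mem_centralizer_singleton_iff.1 (htop ▸ mem_top c)) with rfl | rfl | rfl | rfl
    exacts [one_mul 1, zz, bb, mul_self_mul zz bb (hc b).symm]
  have hD : ∀ v w : G, v * v = 1 → w * w = 1 → v ≠ 1 → 4 ∣ {x | D8 v w x}.ncard :=
    fun v w hv hw v1 => by
      rw [show {x | D8 v w x} = ∅ from Set.eq_empty_of_forall_notMem fun x hx => v1 ?_]
      · simp
      have e : x * w * (x * w) = v := by
        rw [← one_mul v, ← hx.1, mul_assoc x x, ← hx.2.2, inv_eq_of_mul_self hw]; group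
      obtain ⟨g, hg⟩ := H9.exists_conj_mem_sylow T (H9.isPGroup_zpowers_of_pow (p := 2) (a := 2)
        (x := x * w) (by rw [sq, pow_mul, sq, sq, e, hv]))
      have := Subtype.ext_iff.1 (hsq ⟨_, hg _ (mem_zpowers _)⟩)
      simpa [conj_mul, e] using this
  exact hX (main (hD _ _ zz' bb' z1') (hD _ _ bb' zz' b1') (hD _ _ (mul_self_mul zz' bb' hc') zz' zb1'))

end H41
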